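import Cfsg.Agent.H735.S4822.Fix
import Cfsg.Agent.H656.OverPrincipal
import Cfsg.Agent.H611.CoverPrincipal
import Cfsg.Agent.H700.PrinCrit
import Cfsg.Agent.H633.Principal
import Cfsg.Agent.Characters.Clifford

/-!
# Counting characters of the principal block over a normal subgroup of index prime to `p`
(helper735, for S4822)

`N` is normal in `G`, `p` does not divide `|G : N|`, `P` is a Sylow `p`-subgroup of `G` and
`K = N C_G(P)`.

* `sup_normal`: `K` is normal.
* `conjIrr_eq`: `K` fixes every character of the principal block of `N`.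
* `infl_mem`: inflations of irreducible characters of `G / K` lie in the principal block of `G`.
* `count_family`: `k(G / K)` + (number of nontrivial members of `B₀(N)`, pairwise not `G`-conjugate)
  is at most `k(B₀(G))`.
* `count_index`: `k(B₀(N)) - 1 ≤ r |G : K|` and `k(G / K) + r ≤ k(B₀(G))` for some `r`.
-/

set_option autoImplicit false
set_option linter.unusedSectionVars false

namespace Cfsg.Agent.H735.S4822

open Cfsg Cfsg.Agent.Blocks Cfsg.Agent.Blocks.Local Cfsg.Agent.Characters.Core

universe u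

variable {G : Type u} [Group G] [Finite G] {p : ℕ} [Fact p.Prime] {M : Ideal AlgInt}

/-- A normal subgroup of index prime to `p` contains the Sylow `p`-subgroups. -/
theorem sylow_le (N : Subgroup G) [N.Normal] (hidx : ¬ p ∣ N.index) (P : Sylow p G) :
    (P : Subgroup G) ≤ N := by
  have hp : p.Prime := Fact.out
  intro x hx
  have h1 : (QuotientGroup.mk x : G ⧸ N) = 1 := by
    obtain ⟨k, hk⟩ := (IsPGroup.iff_orderOf.1 P.isPGroup') ⟨x, hx⟩
    have h2 : orderOf (QuotientGroup.mk x : G ⧸ N) ∣ p ^ k := by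
      rw [← hk]
      have h3 : orderOf (⟨x, hx⟩ : (P : Subgroup G)) = orderOf x :=
        (Subgroup.orderOf_coe (⟨x, hx⟩ : (P : Subgroup G))).symm
      rw [h3]
      exact orderOf_map_dvd (QuotientGroup.mk' N) x
    have h4 : orderOf (QuotientGroup.mk x : G ⧸ N) ∣ N.index := by
      rw [Subgroup.index_eq_card]
      exact orderOf_dvd_natCard _
    have h5 : Nat.Coprime (p ^ k) N.index :=
      Nat.Coprime.pow_left k ((Nat.Prime.coprime_iff_not_dvd hp).2 hidx)
    have h6 := Nat.dvd_gcd h2 h4
    rw [h5] at h6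
    exact orderOf_eq_one_iff.1 (Nat.dvd_one.1 h6)
  exact (QuotientGroup.eq_one_iff x).1 h1

theorem sup_normal (N : Subgroup G) [hN : N.Normal] (hidx : ¬ p ∣ N.index) (P : Sylow p G) :
    (N ⊔ Subgroup.centralizer ((P : Subgroup G) : Set G)).Normal := by
  have hPN := sylow_le N hidx P
  refine ⟨fun x hx g => ?_⟩
  -- `g P g⁻¹ = n P n⁻¹`
  have hg : (g • P : Sylow p G) = g • P := rfl
  have hle2 : ((g • P : Sylow p G) : Subgroup G) ≤ N := sylow_le N hidx (g • P)
  obtain ⟨n, hn⟩ := MulAction.exists_smul_eq N (P.subtype hPN) ((g • P).subtype hle2)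
  have h1 : (n : G) • P = g • P := by
    apply Sylow.ext
    have h2 := congrArg (fun Q : Sylow p N => (Q : Subgroup N).map N.subtype) hn
    simp only [Sylow.smul_subtype, Sylow.coe_subtype] at h2
    rw [Subgroup.subgroupOf_map_subtype, Subgroup.subgroupOf_map_subtype] at h2
    rw [inf_eq_left.2 hle2] at h2
    rw [← h2]
    rw [inf_eq_left.2]
    · rfl
    · exact sylow_le N hidx ((n : G) • P)
  have hsub : ∀ c ∈ Subgroup.centralizer ((P : Subgroup G) : Set G),
      g * c * g⁻¹ ∈ N ⊔ Subgroup.centralizer ((P : Subgroup G) : Set G) := by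
    intro c hc
    have h30 : (g⁻¹ * (n : G)) • P = P := by rw [mul_smul, h1, inv_smul_smul]
    have h3 : g⁻¹ * n ∈ Subgroup.normalizer ((P : Subgroup G) : Set G) :=
      Sylow.smul_eq_iff_mem_normalizer.1 h30
    have h4 : (n : G)⁻¹ * (g * c * g⁻¹) * n ∈ Subgroup.centralizer ((P : Subgroup G) : Set G) := by
      have h5 : (n : G)⁻¹ * (g * c * g⁻¹) * n = (g⁻¹ * n)⁻¹ * c * (g⁻¹ * n) := by group
      rw [h5, Subgroup.mem_centralizer_iff]
      intro y hy
      have h6 : (g⁻¹ * n) * y * (g⁻¹ * n)⁻¹ ∈ (P : Subgroup G) :=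
        (Subgroup.mem_normalizer_iff.1 h3 y).1 hy
      have h7 := Subgroup.mem_centralizer_iff.1 hc _ h6
      calc y * ((g⁻¹ * n)⁻¹ * c * (g⁻¹ * n))
          = (g⁻¹ * n)⁻¹ * ((g⁻¹ * n) * y * (g⁻¹ * n)⁻¹ * c) * (g⁻¹ * n) := by group
        _ = (g⁻¹ * n)⁻¹ * (c * ((g⁻¹ * n) * y * (g⁻¹ * n)⁻¹)) * (g⁻¹ * n) := by rw [h7]
        _ = (g⁻¹ * n)⁻¹ * c * (g⁻¹ * n) * y := by group
    have h8 : g * c * g⁻¹ = n * ((n : G)⁻¹ * (g * c * g⁻¹) * n) * (n : G)⁻¹ := by group
    rw [h8]
    have hnm : (n : G) ∈ N ⊔ Subgroup.centralizer ((P : Subgroup G) : Set G) :=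
      Subgroup.mem_sup_left n.2
    exact mul_mem (mul_mem hnm (Subgroup.mem_sup_right h4)) (inv_mem hnm)
  rw [← SetLike.mem_coe, Subgroup.normal_mul] at hx
  obtain ⟨n', hn', c, hc, rfl⟩ := Set.mem_mul.1 hx
  have h9 : g * (n' * c) * g⁻¹ = (g * n' * g⁻¹) * (g * c * g⁻¹) := by group
  rw [h9]
  exact mul_mem (Subgroup.mem_sup_left (hN.conj_mem n' hn' g)) (hsub c hc)

/-- `N C_G(P)` fixes the characters of the principal block of `N`. -/
theorem conjIrr_eq (hM : IsPModular p M) (N : Subgroup G) [hN : N.Normal] (hidx : ¬ p ∣ N.index)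
    (P : Sylow p G) {g : G} (hg : g ∈ N ⊔ Subgroup.centralizer ((P : Subgroup G) : Set G))
    {ψ : IrrCharacter N} (hψ : ψ ∈ principalBlock M N) : Covering.conjIrr N g ψ = ψ := by
  have hp : p.Prime := Fact.out
  have hPN := sylow_le N hidx P
  let S : Subgroup G :=
    { carrier := {x | Covering.conjIrr N x ψ = ψ}
      one_mem' := Covering.conjIrr_one N ψ
      mul_mem' := by
        intro a b ha hb
        show Covering.conjIrr N (a * b) ψ = ψ
        rw [← Covering.conjIrr_conjIrr, show Covering.conjIrr N a ψ = ψ from ha]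
        exact hb
      inv_mem' := by
        intro a ha
        show Covering.conjIrr N a⁻¹ ψ = ψ
        have h1 := Covering.conjIrr_conjIrr N a⁻¹ a ψ
        rw [show Covering.conjIrr N a ψ = ψ from ha, mul_inv_cancel, Covering.conjIrr_one] at h1
        exact h1 }
  have hNS : N ≤ S := by
    intro n hn
    apply Subtype.ext
    funext x
    rw [Covering.conjIrr_apply]
    have h1 := isCharacter_isClassFunction (isIrr_isCharacter ψ.2) x ⟨n, hn⟩
    have h2 : MulAut.conjNormal n x = (⟨n, hn⟩ : N) * x * (⟨n, hn⟩ : N)⁻¹ := by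
      apply Subtype.ext
      rw [MulAut.conjNormal_apply]
      rfl
    rw [h2]
    exact h1
  have hreg : ∀ c ∈ Subgroup.centralizer ((P : Subgroup G) : Set G), ¬ p ∣ orderOf c → c ∈ S := by
    intro c hc hcp
    apply Subtype.ext
    funext x
    rw [Covering.conjIrr_apply]
    refine fix_aut hM (P.subtype hPN) (MulAut.conjNormal c) ?_ ?_ hψ x
    · intro h
      exact hcp (h.trans (orderOf_map_dvd (MulAut.conjNormal (H := N)) c))
    · intro r hr
      have hr' : (r : G) ∈ (P : Subgroup G) := by
        simpa [Sylow.coe_subtype, Subgroup.mem_subgroupOf] using hr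
      apply Subtype.ext
      rw [MulAut.conjNormal_apply]
      have h1 := Subgroup.mem_centralizer_iff.1 hc (r : G) hr'
      rw [← h1, mul_inv_cancel_right]
  have hCS : Subgroup.centralizer ((P : Subgroup G) : Set G) ≤ S := by
    intro c hc
    -- split off the `p`-part
    obtain ⟨k, m, hm, hkm⟩ := Nat.exists_eq_pow_mul_and_not_dvd (orderOf_pos c).ne' p hp.ne_one
    have hcop : Nat.Coprime (p ^ k) m :=
      Nat.Coprime.pow_left k ((Nat.Prime.coprime_iff_not_dvd hp).2 hm)
    obtain ⟨v, hv0, hv1⟩ := Nat.chineseRemainder hcop 0 1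
    have hb : c ^ v ∈ S := by
      refine hreg _ (pow_mem hc v) ?_
      have h1 : orderOf (c ^ v) ∣ m := by
        apply orderOf_dvd_of_pow_eq_one
        rw [← pow_mul]
        apply orderOf_dvd_iff_pow_eq_one.1
        rw [hkm]
        exact mul_dvd_mul ((Nat.modEq_zero_iff_dvd).1 hv0) (dvd_refl m)
      intro h
      exact hm (h.trans h1)
    -- `c ^ m` lies in `N`
    have hcm : c ^ m ∈ N := by
      rw [← QuotientGroup.eq_one_iff]
      have h1 : orderOf (QuotientGroup.mk (c ^ m) : G ⧸ N) ∣ p ^ k := by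
        apply orderOf_dvd_of_pow_eq_one
        rw [← QuotientGroup.mk_pow, ← pow_mul, mul_comm m, ← hkm, pow_orderOf_eq_one]
        rfl
      have h4 : orderOf (QuotientGroup.mk (c ^ m) : G ⧸ N) ∣ N.index := by
        rw [Subgroup.index_eq_card]
        exact orderOf_dvd_natCard _
      have h5 : Nat.Coprime (p ^ k) N.index :=
        Nat.Coprime.pow_left k ((Nat.Prime.coprime_iff_not_dvd hp).2 hidx)
      have h6 := Nat.dvd_gcd h1 h4
      rw [h5] at h6
      exact orderOf_eq_one_iff.1 (Nat.dvd_one.1 h6)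
    -- `c = c ^ v * (c ^ m) ^ (-w)`
    have h7 : (m : ℤ) ∣ 1 - (v : ℤ) := by
      have := (Nat.modEq_iff_dvd).1 hv1
      simpa using this
    obtain ⟨w, hw⟩ := h7
    have h8 : c = c ^ v * (c ^ m) ^ w := by
      rw [← zpow_natCast c v, ← zpow_natCast c m, ← zpow_mul, ← hw, ← zpow_add]
      simp
    rw [h8]
    exact mul_mem hb (hNS (zpow_mem hcm w))
  exact (sup_le hNS hCS) hg

/-- Inflations from `G / K`, `C_G(P) ≤ K`, `p ∤ |G : K|`, lie in the principal block. -/
theorem infl_mem (hM : IsPModular p M) (P : Sylow p G) (K : Subgroup G) [K.Normal]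
    (hK : Subgroup.centralizer ((P : Subgroup G) : Set G) ≤ K) (hidx : ¬ p ∣ K.index)
    (χ : IrrCharacter (G ⧸ K)) : H633.Principal.infl K χ ∈ principalBlock M G := by
  have hMp : M.IsPrime := isPrime_of_isPModular hM
  have hd : charDegree (H633.Principal.infl K χ : G → ℂ) = charDegree (χ : G ⧸ K → ℂ) := rfl
  rw [H700.PrinCrit.mem_principalBlock_iff hM P.isPGroup' P.not_dvd_index]
  · intro x hx
    have h1 : (QuotientGroup.mk x : G ⧸ K) = 1 := (QuotientGroup.eq_one_iff x).2 (hK hx)
    rw [H633.Principal.infl_apply, H633.Principal.infl_apply, h1, QuotientGroup.mk_one, sub_self]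
    exact memLocalIdeal_zero
  · rw [hd]
    intro h
    apply hidx
    rw [Subgroup.index_eq_card]
    exact h.trans (Blocks.Knorr.charDegree_dvd χ.2)

/-- **Family count.** -/
theorem count_family (hM : IsPModular p M) (N : Subgroup G) [hN : N.Normal]
    (hidx : ¬ p ∣ N.index) (P : Sylow p G) (K : Subgroup G) [K.Normal] (hNK : N ≤ K)
    (hK : Subgroup.centralizer ((P : Subgroup G) : Set G) ≤ K) {ι : Type*} [Finite ι]
    (f : ι → IrrCharacter N) (hf : ∀ i, f i ∈ principalBlock M N)
    (hne : ∀ i, (f i : N → ℂ) ≠ 1)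
    (hpair : ∀ i j (g : G), f j = Covering.conjIrr N g (f i) → i = j) :
    Nat.card (ConjClasses (G ⧸ K)) + Nat.card ι ≤ Nat.card (principalBlock M G) := by
  classical
  have hMp : M.IsPrime := isPrime_of_isPModular hM
  have hfG : Fintype G := Fintype.ofFinite G
  have hfN : Fintype N := Fintype.ofFinite N
  have hfin : Finite (IrrCharacter G) := finite_irr
  have hfinQ : Finite (IrrCharacter (G ⧸ K)) := finite_irr
  have hKidx : ¬ p ∣ K.index := fun h => hidx (h.trans (Subgroup.index_dvd_of_le hNK))
  have hPn : (P : Subgroup G) ≤ Subgroup.normalizer (N : Set G) := by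
    rw [Subgroup.normalizer_eq_top]; exact le_top
  choose χ hχ hover using fun i => H656.OverPrincipal.exists_over hM N P hPn (f i) (hf i)
  let F : IrrCharacter (G ⧸ K) ⊕ ι → principalBlock M G := fun z =>
    Sum.elim (fun θ => ⟨H633.Principal.infl K θ, infl_mem hM P K hK hKidx θ⟩)
      (fun i => ⟨χ i, hχ i⟩) z
  have hF : Function.Injective F := by
    have hcross : ∀ (θ : IrrCharacter (G ⧸ K)) (i : ι), H633.Principal.infl K θ ≠ χ i := by
      intro θ i h
      apply hover i
      have h1 : (fun n : N => (χ i : G → ℂ) n) = fun n : N => (χ i : G → ℂ) 1 * (1 : N → ℂ) n := by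
        funext n
        rw [← h, H633.Principal.infl_apply, H633.Principal.infl_apply,
          (QuotientGroup.eq_one_iff (n : G)).2 (hNK n.2), QuotientGroup.mk_one, Pi.one_apply,
          mul_one]
      rw [h1]
      have h2 : classInner (1 : N → ℂ) (f i : N → ℂ) = 0 :=
        classInner_irr_ne isIrr_one (f i).2 (hne i).symm
      have h3 := classInner_smul_left ((χ i : G → ℂ) 1) (1 : N → ℂ) (f i : N → ℂ)
      rw [h2, mul_zero] at h3
      exact h3
    rintro (θ | i) (θ' | j) h
    · have h1 : H633.Principal.infl K θ = H633.Principal.infl K θ' := congrArg Subtype.val h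
      congr 1
      apply Subtype.ext
      funext x
      obtain ⟨g, rfl⟩ := QuotientGroup.mk_surjective x
      rw [← H633.Principal.infl_apply, h1, H633.Principal.infl_apply]
    · exact absurd (congrArg Subtype.val h) (hcross θ j)
    · exact absurd (congrArg Subtype.val h).symm (hcross θ' i)
    · have h1 : χ i = χ j := congrArg Subtype.val h
      congr 1
      have h2 := hover j
      rw [← h1] at h2
      obtain ⟨g, hg⟩ := Characters.Clifford.exists_conj_of_constituents N (χ i).2 (f i).2 (f j).2
        (hover i) h2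
      refine hpair i j g (Subtype.ext ?_)
      rw [hg]
      rfl
  have h := Nat.card_le_card_of_injective F hF
  rw [Nat.card_sum, card_irr] at h
  exact h

/-- **Orbit count.** -/
theorem count_index (hM : IsPModular p M) (N : Subgroup G) [hN : N.Normal]
    (hidx : ¬ p ∣ N.index) (P : Sylow p G) (K : Subgroup G) [hKn : K.Normal]
    (hK : K = N ⊔ Subgroup.centralizer ((P : Subgroup G) : Set G)) :
    ∃ r : ℕ, Nat.card (principalBlock M N) ≤ r * K.index + 1 ∧
      Nat.card (ConjClasses (G ⧸ K)) + r ≤ Nat.card (principalBlock M G) := by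
  classical
  have hMp : M.IsPrime := isPrime_of_isPModular hM
  have hfin : Finite (IrrCharacter N) := finite_irr
  let X := {ψ : IrrCharacter N // ψ ∈ principalBlock M N ∧ (ψ : N → ℂ) ≠ 1}
  let R : Setoid X :=
    { r := fun a b => ∃ g : G, b.1 = Covering.conjIrr N g a.1
      iseqv :=
        { refl := fun a => ⟨1, (Covering.conjIrr_one N _).symm⟩
          symm := by
            rintro a b ⟨g, hg⟩
            exact ⟨g⁻¹, by rw [hg, Covering.conjIrr_conjIrr, mul_inv_cancel, Covering.conjIrr_one]⟩
          trans := by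
            rintro a b c ⟨g, hg⟩ ⟨h, hh⟩
            exact ⟨g * h, by rw [hh, hg, Covering.conjIrr_conjIrr]⟩ } }
  have hfinq : Finite (Quotient R) := Finite.of_surjective _ Quotient.mk_surjective
  refine ⟨Nat.card (Quotient R), ?_, ?_⟩
  · -- the fibres
    have hconj : ∀ (g : G) {ψ : IrrCharacter N}, ψ ∈ principalBlock M N →
        Covering.conjIrr N g ψ ∈ principalBlock M N :=
      fun g _ h => H611.CoverPrincipal.conjIrr_mem_principalBlock N g h
    have hone : ∀ (g : G) {ψ : IrrCharacter N}, (ψ : N → ℂ) ≠ 1 →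
        (Covering.conjIrr N g ψ : N → ℂ) ≠ 1 := by
      intro g ψ h h1
      apply h
      funext n
      have h2 := congrFun h1 ((MulAut.conjNormal g).symm n)
      rw [Covering.conjIrr_apply, MulEquiv.apply_symm_apply] at h2
      exact h2
    let F : Quotient R × (G ⧸ K) → X := fun z =>
      ⟨Covering.conjIrr N z.2.out z.1.out.1, hconj _ z.1.out.2.1, hone _ z.1.out.2.2⟩
    have hF : Function.Surjective F := by
      intro x
      obtain ⟨g, hg⟩ : ∃ g : G, x.1 = Covering.conjIrr N g (Quotient.mk R x).out.1 :=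
        Quotient.exact (Quotient.out_eq (Quotient.mk R x))
      refine ⟨(Quotient.mk R x, QuotientGroup.mk g), Subtype.ext ?_⟩
      show Covering.conjIrr N (QuotientGroup.mk g : G ⧸ K).out _ = x.1
      obtain ⟨k, hk⟩ := QuotientGroup.mk_out_eq_mul K g
      have h1 : (QuotientGroup.mk g : G ⧸ K).out = (g * k * g⁻¹) * g := by rw [hk]; group
      rw [h1, ← Covering.conjIrr_conjIrr, conjIrr_eq hM N hidx P _ (Quotient.mk R x).out.2.1, ← hg]
      rw [← hK]
      exact hKn.conj_mem _ k.2 g
    have h1 := Nat.card_le_card_of_surjective F hF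
    rw [Nat.card_prod, ← Subgroup.index_eq_card] at h1
    -- `B₀(N)` is `X` and the trivial character
    let E : principalBlock M N → Option X := fun ψ =>
      if h : (ψ.1 : N → ℂ) = 1 then none else some ⟨ψ.1, ψ.2, h⟩
    have hE : Function.Injective E := by
      intro a b hab
      by_cases ha : (a.1 : N → ℂ) = 1
      · by_cases hb : (b.1 : N → ℂ) = 1
        · exact Subtype.ext (Subtype.ext (ha.trans hb.symm))
        · simp only [E, dif_pos ha, dif_neg hb] at hab
          exact absurd hab (by simp)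
      · by_cases hb : (b.1 : N → ℂ) = 1
        · simp only [E, dif_pos hb, dif_neg ha] at hab
          exact absurd hab (by simp)
        · simp only [E, dif_neg ha, dif_neg hb, Option.some.injEq] at hab
          exact Subtype.ext (congrArg (fun x : X => x.1) hab)
    have h2 := Nat.card_le_card_of_injective E hE
    have h3 : Nat.card (Option X) = Nat.card X + 1 := Finite.card_option
    omega
  · refine count_family hM N hidx P K (hK ▸ le_sup_left) (hK ▸ le_sup_right)
      (fun q : Quotient R => q.out.1) (fun q => q.out.2.1) (fun q => q.out.2.2) ?_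
    intro i j g h
    rw [← Quotient.out_eq i, ← Quotient.out_eq j]
    exact Quotient.sound ⟨g, h⟩

end Cfsg.Agent.H735.S4822
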