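import Cfsg.Agent.H685.Alperin
import Cfsg.Agent.H133.PB.Basic

/-!
# Coprime automorphisms centralizing a Sylow subgroup fix the principal block (helper735, for S4822)

`fix_aut`: an automorphism of `T` of order prime to `p` which is trivial on a Sylow `p`-subgroup of
`T` fixes every character of the principal `p`-block of `T` (Alperin's isomorphic blocks).
-/

set_option autoImplicit false
set_option linter.unusedSectionVars false

namespace Cfsg.Agent.H735.S4822

open Cfsg Cfsg.Agent.Blocks.Local Cfsg.Agent.Characters.Core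

universe u

variable {T : Type u} [Group T] [Finite T] {p : ℕ} [Fact p.Prime] {M : Ideal AlgInt}

theorem fix_aut (hM : IsPModular p M) (R : Sylow p T) (α : MulAut T) (hα : ¬ p ∣ orderOf α)
    (hR : ∀ r ∈ (R : Subgroup T), α r = r) {ψ : IrrCharacter T} (hψ : ψ ∈ principalBlock M T)
    (x : T) : (ψ : T → ℂ) (α x) = (ψ : T → ℂ) x := by
  classical
  have hp : p.Prime := Fact.out
  have hMp : M.IsPrime := isPrime_of_isPModular hM
  let A : Subgroup (MulAut T) := Subgroup.zpowers α
  let H := T ⋊[A.subtype] A
  let N : Subgroup H := (SemidirectProduct.inl : T →* H).range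
  have hNker : N = (SemidirectProduct.rightHom : H →* A).ker :=
    SemidirectProduct.range_inl_eq_ker_rightHom
  have hN : N.Normal := by rw [hNker]; infer_instance
  have hHfin : Finite H := Finite.of_equiv _ (SemidirectProduct.equivProd (φ := A.subtype)).symm
  have hidx : N.index = orderOf α := by
    rw [hNker, Subgroup.index_ker, MonoidHom.range_eq_top.2 SemidirectProduct.rightHom_surjective,
      Subgroup.card_top, Nat.card_zpowers]
  have hNidx : ¬ p ∣ N.index := by rw [hidx]; exact hα
  let e : T ≃* N := MonoidHom.ofInjective SemidirectProduct.inl_injective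
  have he : ∀ t : T, ((e t : N) : H) = SemidirectProduct.inl t := fun t => rfl
  -- the Sylow subgroup
  let P₀ : Subgroup H := (R : Subgroup T).map (SemidirectProduct.inl : T →* H)
  have hP₀ : IsPGroup p P₀ := R.isPGroup'.map _
  have hcardP : Nat.card P₀ = Nat.card (R : Subgroup T) :=
    Nat.card_congr (((R : Subgroup T).equivMapOfInjective _ SemidirectProduct.inl_injective).symm.toEquiv)
  have hcardN : Nat.card N = Nat.card T := Nat.card_congr e.symm.toEquiv
  have hP₀i : ¬ p ∣ P₀.index := by
    have h1 : Nat.card P₀ * P₀.index = Nat.card H := Subgroup.card_mul_index _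
    have h2 : Nat.card N * N.index = Nat.card H := Subgroup.card_mul_index _
    have h3 : Nat.card (R : Subgroup T) * (R : Subgroup T).index = Nat.card T :=
      Subgroup.card_mul_index _
    rw [hcardN, ← h3, ← h1, hcardP, mul_assoc] at h2
    have h4 : (R : Subgroup T).index * N.index = P₀.index :=
      Nat.eq_of_mul_eq_mul_left Nat.card_pos h2
    rw [← h4]
    intro h
    rcases hp.dvd_mul.1 h with h | h
    · exact R.not_dvd_index h
    · exact hNidx h
  let P : Sylow p H := hP₀.toSylow hP₀i
  have hPc : ((P : Subgroup H) : Set H) = P₀ := rfl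
  have hfixA : ∀ a : A, ∀ r ∈ (R : Subgroup T), (a : MulAut T) r = r := by
    intro a r hr
    have h1 : α ∈ MulAction.stabilizer (MulAut T) r := hR r hr
    have h2 : A ≤ MulAction.stabilizer (MulAut T) r := by
      rw [Subgroup.zpowers_le]; exact h1
    exact h2 a.2
  have hinr : ∀ a : A, (SemidirectProduct.inr a : H) ∈
      Subgroup.centralizer ((P : Subgroup H) : Set H) := by
    intro a
    rw [hPc, Subgroup.mem_centralizer_iff]
    rintro _ ⟨r, hr, rfl⟩
    have h1 := SemidirectProduct.inl_aut (φ := A.subtype) a r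
    have h2 : (A.subtype a) r = r := hfixA a r hr
    rw [h2] at h1
    have h3 : (SemidirectProduct.inr a⁻¹ : H) = (SemidirectProduct.inr a : H)⁻¹ := map_inv _ _
    rw [h3] at h1
    exact eq_mul_inv_iff_mul_eq.1 h1
  have hsup : N ⊔ Subgroup.centralizer ((P : Subgroup H) : Set H) = ⊤ := by
    rw [eq_top_iff]
    intro h _
    have h1 : h = SemidirectProduct.inl h.left * SemidirectProduct.inr h.right :=
      (SemidirectProduct.inl_left_mul_inr_right h).symm
    rw [h1]
    exact Subgroup.mul_mem_sup ⟨_, rfl⟩ (hinr _)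
  -- the character of `N`
  let ψ' : IrrCharacter N := ⟨(ψ : T → ℂ) ∘ e.symm.toMonoidHom,
    isIrr_comp e.symm.toMonoidHom e.symm.surjective ψ.2⟩
  have hψ' : ψ' ∈ principalBlock M N :=
    H133.PB.mem_principalBlock_comp e.symm.toMonoidHom e.symm.surjective hψ
  have hfN : Fintype N := Fintype.ofFinite N
  obtain ⟨χ, hχ, hover⟩ := H685.Alperin.exists_over hM hNidx P hsup hψ'
  have hirr := H685.Alperin.isIrr_restrict hM P hsup hχ
  have heq : (ψ' : N → ℂ) = fun n : N => (χ : H → ℂ) n := by
    by_contra hne
    exact hover (classInner_irr_ne ψ'.2 hirr hne)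
  have hval : ∀ t : T, (ψ : T → ℂ) t = (χ : H → ℂ) (SemidirectProduct.inl t) := by
    intro t
    have h1 := congrFun heq (e t)
    have h2 : (ψ' : N → ℂ) (e t) = (ψ : T → ℂ) t := by
      change (ψ : T → ℂ) (e.symm (e t)) = _
      rw [MulEquiv.symm_apply_apply]
    rw [h2] at h1
    exact h1
  rw [hval, hval]
  have h3 := SemidirectProduct.inl_aut (φ := A.subtype) ⟨α, Subgroup.mem_zpowers α⟩ x
  have h4 : (A.subtype ⟨α, Subgroup.mem_zpowers α⟩) x = α x := rfl
  rw [h4] at h3
  have h5 : (SemidirectProduct.inr (⟨α, Subgroup.mem_zpowers α⟩ : A)⁻¹ : H) =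
      (SemidirectProduct.inr (⟨α, Subgroup.mem_zpowers α⟩ : A) : H)⁻¹ := map_inv _ _
  rw [h3, h5]
  exact isCharacter_isClassFunction (isIrr_isCharacter χ.2) _ _

end Cfsg.Agent.H735.S4822
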