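import Cfsg.Agent.H793.PC.Nor
import Cfsg.Agent.H735.S4822.Orb

/-!
# Products of characters of principal blocks (helper735, for S4822)

* `pi_mem`: a product of members of the principal blocks of the factors is a member of the principal
  block of a direct product.
* `F_mem`: the same for the decomposition of a nonabelian minimal normal subgroup.
-/

set_option autoImplicit false
set_option linter.unusedSectionVars false

namespace Cfsg.Agent.H735.S4822

open Cfsg Cfsg.Agent.Blocks Cfsg.Agent.Blocks.Local Cfsg.Agent.Characters.Core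
  Cfsg.Agent.Lib.MinNormalNonabelian Cfsg.Agent.Lib.MinNormal Cfsg.Agent.H793.PC

universe u v

variable {M : Ideal AlgInt}

theorem memLocalRing_prod [M.IsPrime] {ι : Type*} (s : Finset ι) (a : ι → ℂ)
    (ha : ∀ i ∈ s, MemLocalRing M (a i)) : MemLocalRing M (∏ i ∈ s, a i) := by
  classical
  induction s using Finset.induction_on with
  | empty => rw [Finset.prod_empty]; exact memLocalRing_one
  | insert j s hj ih =>
    rw [Finset.prod_insert hj]
    exact memLocalRing_mul (ha j (Finset.mem_insert_self _ _))
      (ih fun i hi => ha i (Finset.mem_insert_of_mem hi))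

theorem memLocalIdeal_prod_sub [M.IsPrime] {ι : Type*} (s : Finset ι) (a b : ι → ℂ)
    (ha : ∀ i ∈ s, MemLocalRing M (a i)) (hb : ∀ i ∈ s, MemLocalRing M (b i))
    (h : ∀ i ∈ s, MemLocalIdeal M (a i - b i)) :
    MemLocalIdeal M (∏ i ∈ s, a i - ∏ i ∈ s, b i) := by
  classical
  induction s using Finset.induction_on with
  | empty => rw [Finset.prod_empty, Finset.prod_empty, sub_self]; exact memLocalIdeal_zero
  | insert j s hj ih =>
    rw [Finset.prod_insert hj, Finset.prod_insert hj]
    have h1 : a j * ∏ i ∈ s, a i - b j * ∏ i ∈ s, b i =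
        (∏ i ∈ s, a i) * (a j - b j) + b j * (∏ i ∈ s, a i - ∏ i ∈ s, b i) := by ring
    rw [h1]
    exact memLocalIdeal_add
      (memLocalIdeal_mul_left (memLocalRing_prod s a fun i hi => ha i (Finset.mem_insert_of_mem hi))
        (h j (Finset.mem_insert_self _ _)))
      (memLocalIdeal_mul_left (hb j (Finset.mem_insert_self _ _))
        (ih (fun i hi => ha i (Finset.mem_insert_of_mem hi))
          (fun i hi => hb i (Finset.mem_insert_of_mem hi))
          (fun i hi => h i (Finset.mem_insert_of_mem hi))))

variable {ι : Type v} [Fintype ι] {A : ι → Type u} [∀ i, Group (A i)] [∀ i, Finite (A i)]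

theorem index_centralizer_pi (x : ∀ i, A i) :
    (Subgroup.centralizer ({x} : Set (∀ i, A i))).index =
      ∏ i, (Subgroup.centralizer ({x i} : Set (A i))).index := by
  classical
  have h1 : Subgroup.centralizer ({x} : Set (∀ i, A i)) =
      Subgroup.pi Set.univ fun i => Subgroup.centralizer ({x i} : Set (A i)) := by
    ext y
    rw [Subgroup.mem_centralizer_singleton_iff, Subgroup.mem_pi]
    constructor
    · intro h i _
      rw [Subgroup.mem_centralizer_singleton_iff]
      exact congrFun h i
    · intro h
      funext i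
      exact Subgroup.mem_centralizer_singleton_iff.1 (h i (Set.mem_univ i))
  have h2 : Nat.card (Subgroup.centralizer ({x} : Set (∀ i, A i))) =
      ∏ i, Nat.card (Subgroup.centralizer ({x i} : Set (A i))) := by
    rw [h1, card_pi']
  have h3 := Subgroup.card_mul_index (Subgroup.centralizer ({x} : Set (∀ i, A i)))
  have h4 : ∏ i, (Nat.card (Subgroup.centralizer ({x i} : Set (A i))) *
      (Subgroup.centralizer ({x i} : Set (A i))).index) = ∏ i, Nat.card (A i) :=
    Finset.prod_congr rfl fun i _ => Subgroup.card_mul_index _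
  rw [Finset.prod_mul_distrib, ← h2, ← Nat.card_pi, ← h3] at h4
  exact (Nat.eq_of_mul_eq_mul_left Nat.card_pos h4).symm

theorem centralChar_pi (f : ∀ i, A i → ℂ) (x : ∀ i, A i) :
    centralChar (fun x : ∀ i, A i => ∏ i, f i (x i)) x = ∏ i, centralChar (f i) (x i) := by
  unfold centralChar
  rw [index_centralizer_pi, Finset.prod_div_distrib, Finset.prod_mul_distrib, Nat.cast_prod]
  rfl

theorem pi_mem [M.IsPrime] (f : ∀ i, IrrCharacter (A i)) (hf : ∀ i, f i ∈ principalBlock M (A i)) :
    (⟨fun x => ∏ i, (f i : A i → ℂ) (x i), isIrr_pi fun i => (f i).2⟩ :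
      IrrCharacter (∀ i, A i)) ∈ principalBlock M (∀ i, A i) := by
  classical
  intro x
  have h1 : (fun _ : (∀ i, A i) => (1 : ℂ)) = fun x : (∀ i, A i) => ∏ i, (fun _ : A i => (1 : ℂ)) (x i) := by
    funext x
    rw [Finset.prod_const_one]
  rw [h1, centralChar_pi (fun i (_ : A i) => (1 : ℂ)), centralChar_pi (fun i => (f i : A i → ℂ))]
  refine memLocalIdeal_prod_sub _ _ _ (fun i _ => ?_) (fun i _ => ?_) (fun i _ => hf i (x i))
  · exact Blocks.Elementary.memLocalRing_centralChar isIrr_one (x i)
  · exact Blocks.Elementary.memLocalRing_centralChar (f i).2 (x i)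

variable {G : Type u} [Group G] [Finite G] {N : Subgroup G} (h : Dec N) [Fintype (minSet N)]

/-- The product character as an irreducible character. -/
noncomputable def FF (f : ∀ T : minSet N, IrrCharacter (T : Subgroup G)) : IrrCharacter N :=
  ⟨h.F fun T => (f T : ↥(T : Subgroup G) → ℂ), h.isIrr_F fun T => (f T).2⟩

theorem FF_mem [M.IsPrime] (f : ∀ T : minSet N, IrrCharacter (T : Subgroup G))
    (hf : ∀ T : minSet N, f T ∈ principalBlock M (T : Subgroup G)) : FF h f ∈ principalBlock M N :=
  H133.PB.mem_principalBlock_comp h.E.symm.toMonoidHom h.E.symm.surjective (pi_mem f hf)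

end Cfsg.Agent.H735.S4822
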