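import Cfsg.Agent.H508.KB.Defs
import Cfsg.Agent.H634.Cols
import Cfsg.Agent.H686.CharKit
import Cfsg.Agent.H633.Principal
import Cfsg.Agent.H611.CoverPrincipal
import Cfsg.Agent.Characters.Clifford

/-!
# Orbits on the principal block of a simple normal subgroup and classes of `p`-elements
(helper735, S4822 task C4)

`card_le_kap`: if `X` is a set of pairwise nonconjugate `p`-elements of `S` (in `A`), then
`|X| + 1` is at most the number of `A`-orbits on the irreducible characters of `B₀(S)`.
-/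

set_option autoImplicit false
set_option linter.unusedSectionVars false
set_option linter.unusedVariables false

namespace Cfsg.Agent.H735.S4822

open Cfsg Cfsg.Agent.Blocks Cfsg.Agent.Blocks.Local Cfsg.Agent.Characters.Core Module
open Cfsg.Agent.H608.BlockRank Cfsg.Agent.H508.KB
open scoped ComplexConjugate

universe u

variable {A : Type u} [Group A] [Finite A] (S : Subgroup A) [S.Normal] {p : ℕ} [Fact p.Prime]
  {M : Ideal AlgInt}

/-- The `A`-invariant functions in the span of the principal block of `S`. -/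
def Inv {A : Type u} [Group A] (M : Ideal AlgInt) (S : Subgroup A) [S.Normal] :
    Submodule ℂ (↥S → ℂ) where
  carrier := {θ | θ ∈ charSpan (principalBlock M ↥S) ∧
    ∀ (a : A) (s : ↥S), θ (MulAut.conjNormal a s) = θ s}
  add_mem' := by
    rintro θ θ' ⟨h1, h2⟩ ⟨h3, h4⟩
    exact ⟨Submodule.add_mem _ h1 h3, fun a s => by rw [Pi.add_apply, Pi.add_apply, h2, h4]⟩
  zero_mem' := ⟨Submodule.zero_mem _, fun _ _ => rfl⟩
  smul_mem' := by
    rintro c θ ⟨h1, h2⟩
    exact ⟨Submodule.smul_mem _ _ h1, fun a s => by rw [Pi.smul_apply, Pi.smul_apply, h2]⟩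

theorem classInner_eq_zero_of_mem {G : Type u} [Group G] [Fintype G] {B : Set (IrrCharacter G)}
    {θ : G → ℂ} (hθ : θ ∈ charSpan B) {ψ : IrrCharacter G} (hψ : ψ ∉ B) :
    classInner θ (ψ : G → ℂ) = 0 := by
  unfold charSpan at hθ
  induction hθ using Submodule.span_induction with
  | mem θ h =>
    obtain ⟨χ, hχ, rfl⟩ := h
    refine classInner_irr_ne χ.2 ψ.2 fun h => hψ ?_
    have : χ = ψ := Subtype.ext h
    rwa [← this]
  | zero =>
    rw [Blocks.Basic.classInner_def]
    simp
  | add θ θ' _ _ h h' => rw [classInner_add_left, h, h', add_zero]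
  | smul c θ _ h => rw [classInner_smul_left, h, mul_zero]

theorem finrank_inv_le : finrank ℂ (Inv M S) ≤ kap M S := by
  classical
  have : Fintype ↥S := Fintype.ofFinite _
  have : Finite (IrrCharacter ↥S) := finite_irr
  have : Fintype (IrrCharacter ↥S) := Fintype.ofFinite _
  have : Finite (Quotient (orbSetoid M S)) := Finite.of_surjective _ Quotient.mk_surjective
  have : Fintype (Quotient (orbSetoid M S)) := Fintype.ofFinite _
  let c : Inv M S →ₗ[ℂ] (Quotient (orbSetoid M S) → ℂ) :=
    { toFun := fun θ q => classInner (θ : ↥S → ℂ) (q.out.1 : ↥S → ℂ)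
      map_add' := fun θ θ' => by
        funext q
        exact classInner_add_left _ _ _
      map_smul' := fun k θ => by
        funext q
        exact classInner_smul_left _ _ _ }
  have hc : Function.Injective c := by
    rw [injective_iff_map_eq_zero]
    intro θ hθ
    apply Subtype.ext
    have hcf : IsClassFunction ↥S (θ : ↥S → ℂ) := charSpan_isClassFunction θ.2.1
    rw [classFunction_eq_sum hcf]
    refine Finset.sum_eq_zero fun ψ _ => ?_
    by_cases hψ : ψ ∈ principalBlock M ↥S
    · have h1 : (orbSetoid M S).r (Quotient.mk (orbSetoid M S) ⟨ψ, hψ⟩).out ⟨ψ, hψ⟩ :=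
        Quotient.exact (Quotient.out_eq _)
      obtain ⟨a, ha⟩ := h1
      have h2 : (ψ : ↥S → ℂ) = ((Quotient.mk (orbSetoid M S) ⟨ψ, hψ⟩).out.1 : ↥S → ℂ) ∘
          (MulAut.conjNormal a : MulAut ↥S) := by
        funext s
        exact ha s
      have h3 : (θ : ↥S → ℂ) = (θ : ↥S → ℂ) ∘ (MulAut.conjNormal a : MulAut ↥S) := by
        funext s
        exact (θ.2.2 a s).symm
      have h4 : classInner (θ : ↥S → ℂ) (ψ : ↥S → ℂ) = 0 := by
        rw [h2, h3, Characters.Clifford.classInner_comp_mulEquiv]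
        exact congrFun hθ (Quotient.mk (orbSetoid M S) ⟨ψ, hψ⟩)
      rw [h4, zero_smul]
    · rw [classInner_eq_zero_of_mem θ.2.1 hψ, zero_smul]
  have h := LinearMap.finrank_le_finrank_of_injective hc
  rw [finrank_fintype_fun_eq_card] at h
  unfold kap
  rw [Nat.card_eq_fintype_card]
  exact h

/-- The `A`-section of the `p`-element `x` in `S`. -/
def InSec (p : ℕ) (x : A) (s : ↥S) : Prop := ∃ z : ↥S, IsPPart p s z ∧ IsConj x (z : A)

open Classical in
/-- Restriction of a function on `S` to an `A`-section. -/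
noncomputable def scut (p : ℕ) (x : A) (θ : ↥S → ℂ) : ↥S → ℂ :=
  fun s => if InSec S p x s then θ s else 0

theorem scut_of {x : A} {s : ↥S} (h : InSec S p x s) (θ : ↥S → ℂ) : scut S p x θ s = θ s := by
  classical
  exact if_pos h

theorem scut_of_not {x : A} {s : ↥S} (h : ¬ InSec S p x s) (θ : ↥S → ℂ) :
    scut S p x θ s = 0 := by
  classical
  exact if_neg h

theorem exists_isPPart {G : Type u} [Group G] [Finite G] (g : G) : ∃ z : G, IsPPart p g z :=
  Blocks.PPart.exists_isPPart p g

theorem scut_mem (hM : IsPModular p M) (x : A) {θ : ↥S → ℂ}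
    (hθ : θ ∈ charSpan (principalBlock M ↥S)) :
    scut S p x θ ∈ charSpan (principalBlock M ↥S) := by
  classical
  have hMp : M.IsPrime := isPrime_of_isPModular hM
  have hU : IsUnion M (principalBlock M ↥S) :=
    isUnion_of_isPBlock Blocks.PrincipalSection.isPBlock_principalBlock
  have : Finite (ConjClasses ↥S) := Finite.of_surjective ConjClasses.mk ConjClasses.mk_surjective
  have : Fintype (ConjClasses ↥S) := Fintype.ofFinite _
  obtain ⟨rep, hrep⟩ : ∃ rep : ConjClasses ↥S → ↥S, ∀ c, ConjClasses.mk (rep c) = c :=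
    ⟨fun c => (ConjClasses.exists_rep c).choose, fun c => (ConjClasses.exists_rep c).choose_spec⟩
  have h1 : scut S p x θ = ∑ c ∈ (Finset.univ : Finset (ConjClasses ↥S)).filter
      (fun c => IsConj x ((rep c : ↥S) : A)), cut p (rep c) θ := by
    funext s
    rw [Finset.sum_apply]
    obtain ⟨z, hz⟩ := exists_isPPart (p := p) s
    have h2 : ∀ c : ConjClasses ↥S, cut p (rep c) θ s =
        if c = ConjClasses.mk z then θ s else 0 := by
      intro c
      have hc : ConjClasses.mk (rep c) = c := hrep c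
      by_cases h : c = ConjClasses.mk z
      · rw [if_pos h]
        refine cut_of ⟨z, hz, ?_⟩ θ
        rw [← ConjClasses.mk_eq_mk_iff_isConj, hc, h]
      · rw [if_neg h]
        refine cut_of_not ?_ θ
        rintro ⟨z', hz', hcz⟩
        apply h
        rw [Blocks.PPart.isPPart_unique hz hz', ← hc, ConjClasses.mk_eq_mk_iff_isConj]
        exact hcz
    rw [Finset.sum_congr rfl fun c _ => h2 c, Finset.sum_ite_eq']
    have hz1 : IsConj (rep (ConjClasses.mk z)) z := by
      rw [← ConjClasses.mk_eq_mk_iff_isConj]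
      exact hrep _
    have hz2 : IsConj ((rep (ConjClasses.mk z) : ↥S) : A) (z : A) := by
      obtain ⟨g, hg⟩ := isConj_iff.1 hz1
      rw [isConj_iff]
      refine ⟨(g : A), ?_⟩
      have h3 := congrArg (Subtype.val) hg
      exact h3
    by_cases h : IsConj x (z : A)
    · rw [scut_of S ⟨z, hz, h⟩, if_pos]
      rw [Finset.mem_filter]
      exact ⟨Finset.mem_univ _, h.trans hz2.symm⟩
    · rw [scut_of_not, if_neg]
      · rw [Finset.mem_filter]
        rintro ⟨-, h'⟩
        exact h (h'.trans hz2)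
      · rintro ⟨z', hz', h'⟩
        rw [Blocks.PPart.isPPart_unique hz' hz] at h'
        exact h h'
  rw [h1]
  exact Submodule.sum_mem _ fun c _ => cut_mem hM hU _ hθ

theorem inSec_conj {x : A} {s : ↥S} (h : InSec S p x s) (a : A) :
    InSec S p x (MulAut.conjNormal a s) := by
  obtain ⟨z, hz, hxz⟩ := h
  refine ⟨MulAut.conjNormal a z, ?_, ?_⟩
  · exact Blocks.PPart.isPPart_map (MulAut.conjNormal a : MulAut ↥S).toMonoidHom
      (MulAut.conjNormal a : MulAut ↥S).injective hz
  · rw [MulAut.conjNormal_apply]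
    exact hxz.trans (isConj_iff.2 ⟨a, rfl⟩)

theorem scut_inv {x : A} {θ : ↥S → ℂ} (hθ : ∀ (a : A) (s : ↥S), θ (MulAut.conjNormal a s) = θ s)
    (a : A) (s : ↥S) : scut S p x θ (MulAut.conjNormal a s) = scut S p x θ s := by
  by_cases h : InSec S p x s
  · rw [scut_of S h, scut_of S (inSec_conj S h a), hθ]
  · rw [scut_of_not S h, scut_of_not]
    intro h'
    apply h
    have h1 := inSec_conj S h' a⁻¹
    rw [← MulAut.mul_apply, ← map_mul, inv_mul_cancel, map_one] at h1
    exact h1

theorem re_le (ψ : IrrCharacter ↥S) (s : ↥S) : ((ψ : ↥S → ℂ) s).re ≤ ((ψ : ↥S → ℂ) 1).re := by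
  obtain ⟨n, ρ, hρ⟩ := isCharacter_def.1 (isIrr_isCharacter ψ.2)
  have h1 : (ψ : ↥S → ℂ) 1 = (Module.finrank ℂ (Fin n → ℂ) : ℂ) := by
    rw [← hρ, Representation.char_one]
  have h2 := Characters.Values.norm_character_le ρ s
  rw [h1, Complex.natCast_re]
  refine le_trans (Complex.re_le_norm _) ?_
  rw [← hρ]
  exact h2

theorem eq_of_re_eq (ψ : IrrCharacter ↥S) {s : ↥S}
    (h : ((ψ : ↥S → ℂ) s).re = ((ψ : ↥S → ℂ) 1).re) : (ψ : ↥S → ℂ) s = (ψ : ↥S → ℂ) 1 := by
  obtain ⟨n, ρ, hρ⟩ := isCharacter_def.1 (isIrr_isCharacter ψ.2)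
  have h1 : (ψ : ↥S → ℂ) 1 = (Module.finrank ℂ (Fin n → ℂ) : ℂ) := by
    rw [← hρ, Representation.char_one]
  have h2 := Characters.Values.norm_character_le ρ s
  rw [hρ] at h2
  rw [h1, Complex.natCast_re] at h
  have h3 : ‖(ψ : ↥S → ℂ) s‖ = ((ψ : ↥S → ℂ) s).re :=
    le_antisymm (by rw [h]; exact h2) (Complex.re_le_norm _)
  have h4 : ((ψ : ↥S → ℂ) s).im = 0 := by
    have h5 := Complex.sq_norm_sub_sq_re ((ψ : ↥S → ℂ) s)
    rw [h3, sub_self] at h5
    exact pow_eq_zero_iff (two_ne_zero) |>.1 h5.symm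
  apply Complex.ext
  · rw [h, h1, Complex.natCast_re]
  · rw [h4, h1, Complex.natCast_im]

/-- **C4.** Conjugacy classes of `p`-elements, and one more for the `p`-regular elements. -/
theorem card_le_kap (hM : IsPModular p M) (hcop : ¬ p ∣ S.index) (hs : IsSimpleGroup S)
    (hna : ¬ IsMulCommutative S) (hp : p ∣ Nat.card S) (X : Finset A)
    (hX : ∀ x ∈ X, x ∈ S ∧ ∃ k, orderOf x = p ^ k)
    (hcl : ∀ x ∈ X, ∀ y ∈ X, IsConj x y → x = y) : X.card + 1 ≤ kap M S := by
  classical
  have hpp : p.Prime := Fact.out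
  have hMp : M.IsPrime := isPrime_of_isPModular hM
  have hfA : Fintype A := Fintype.ofFinite _
  have hfS : Fintype ↥S := Fintype.ofFinite _
  -- a nontrivial character in the principal block
  obtain ⟨ψ, hψ, hψ1⟩ : ∃ ψ : IrrCharacter ↥S, ψ ∈ principalBlock M ↥S ∧ (ψ : ↥S → ℂ) ≠ 1 := by
    obtain ⟨x, hx⟩ := exists_prime_orderOf_dvd_card' p hp
    have hx1 : x ≠ 1 := by
      intro h
      rw [h, orderOf_one] at hx
      exact hpp.one_lt.ne hx
    have h1 := H634.Cols.rank_add_rank_le hM (x := x) ⟨1, by rw [hx, pow_one]⟩ hx1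
    have h2 := H634.Cols.blockRank_pos (G := ↥S) hM
    have h3 := H634.Cols.blockRank_pos (G := ↥(Subgroup.centralizer ({x} : Set ↥S))) hM
    have h4 : 1 < Nat.card (principalBlock M ↥S) := by omega
    have : Finite (IrrCharacter ↥S) := finite_irr
    rw [Finite.one_lt_card_iff_nontrivial] at h4
    obtain ⟨a, b, hab⟩ := h4
    by_cases ha : (a.1 : ↥S → ℂ) = 1
    · refine ⟨b.1, b.2, fun hb => hab (Subtype.ext (Subtype.ext (ha.trans hb.symm)))⟩
    · exact ⟨a.1, a.2, ha⟩
  -- a nontrivial `p`-regular element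
  obtain ⟨s₀, hs₀, hs₀1⟩ : ∃ s₀ : ↥S, ¬ p ∣ orderOf s₀ ∧ s₀ ≠ 1 := by
    by_contra hcon
    push Not at hcon
    have hPG : IsPGroup p ↥S := by
      intro g
      obtain ⟨k, m, hm, hkm⟩ := Nat.exists_eq_pow_mul_and_not_dvd (orderOf_pos g).ne' p hpp.ne_one
      refine ⟨k, ?_⟩
      apply hcon
      intro h
      have h1 : orderOf (g ^ p ^ k) ∣ m := by
        apply orderOf_dvd_of_pow_eq_one
        rw [← pow_mul, ← hkm, pow_orderOf_eq_one]
      exact hm (h.trans h1)
    have h1 : Group.IsNilpotent ↥S := hPG.isNilpotent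
    have h2 : Nontrivial ↥(Subgroup.center ↥S) := hPG.center_nontrivial
    have h3 : Subgroup.center ↥S = ⊤ := by
      rcases hs.eq_bot_or_eq_top_of_normal (Subgroup.center ↥S) inferInstance with h | h
      · exact absurd h ((Subgroup.nontrivial_iff_ne_bot _).1 h2)
      · exact h
    apply hna
    refine ⟨⟨fun a b => ?_⟩⟩
    have h4 : a ∈ Subgroup.center ↥S := by rw [h3]; trivial
    exact (Subgroup.mem_center_iff.1 h4 b).symm
  -- the average of `ψ`
  let av : ↥S → ℂ := fun s => ∑ a : A, (ψ : ↥S → ℂ) (MulAut.conjNormal a s)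
  have havi : ∀ (a : A) (s : ↥S), av (MulAut.conjNormal a s) = av s := by
    intro a s
    show ∑ b : A, (ψ : ↥S → ℂ) (MulAut.conjNormal b (MulAut.conjNormal a s)) = _
    have h1 : ∀ b : A, (ψ : ↥S → ℂ) (MulAut.conjNormal b (MulAut.conjNormal a s)) =
        (fun b : A => (ψ : ↥S → ℂ) (MulAut.conjNormal b s)) (b * a) := by
      intro b
      rw [← MulAut.mul_apply, ← map_mul]
    rw [Finset.sum_congr rfl fun b _ => h1 b]
    exact Fintype.sum_equiv (Equiv.mulRight a) _ _ fun b => rfl
  have havB : av ∈ charSpan (principalBlock M ↥S) := by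
    have h1 : av = ∑ a : A, ((Covering.conjIrr S a ψ : IrrCharacter ↥S) : ↥S → ℂ) := by
      funext s
      rw [Finset.sum_apply]
      rfl
    rw [h1]
    refine Submodule.sum_mem _ fun a _ => Submodule.subset_span ⟨_, ?_, rfl⟩
    exact H611.CoverPrincipal.conjIrr_mem_principalBlock S a hψ
  have hker : ∀ s : ↥S, (ψ : ↥S → ℂ) s = (ψ : ↥S → ℂ) 1 → s = 1 := by
    intro s h
    rcases hs.eq_bot_or_eq_top_of_normal (H686.CharKit.chKer ψ) inferInstance with h1 | h1
    · have h2 : s ∈ H686.CharKit.chKer ψ := h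
      rw [h1, Subgroup.mem_bot] at h2
      exact h2
    · exfalso
      apply hψ1
      refine H633.Principal.eq_one_of_ker_top ψ fun g => ?_
      have h2 : g ∈ H686.CharKit.chKer ψ := by rw [h1]; trivial
      exact h2
  have hav : av s₀ ≠ av 1 := by
    intro h
    have h1 : ∑ a : A, (((ψ : ↥S → ℂ) 1).re - ((ψ : ↥S → ℂ) (MulAut.conjNormal a s₀)).re) = 0 := by
      have h2 : av 1 = ∑ a : A, (ψ : ↥S → ℂ) 1 :=
        Finset.sum_congr rfl fun a _ => by rw [map_one]
      have h3 := congrArg Complex.re h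
      rw [h2] at h3
      simp only [av, Complex.re_sum] at h3
      rw [Finset.sum_sub_distrib, ← h3, sub_self]
    have hle : ∀ s : ↥S, ((ψ : ↥S → ℂ) s).re ≤ ((ψ : ↥S → ℂ) 1).re := fun s => re_le S ψ s
    have h4 := (Finset.sum_eq_zero_iff_of_nonneg fun a _ => sub_nonneg.2 (hle _)).1 h1 1
      (Finset.mem_univ _)
    rw [map_one] at h4
    have h5 : ((ψ : ↥S → ℂ) s₀).re = ((ψ : ↥S → ℂ) 1).re := (sub_eq_zero.1 h4).symm
    apply hs₀1
    apply hker
    exact eq_of_re_eq S ψ h5
  -- the family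
  let X' : Finset A := insert 1 X
  have hX'c : X.card ≤ X'.card := Finset.card_le_card (Finset.subset_insert _ _)
  have hX'S : ∀ x ∈ X', x ∈ S ∧ ∃ k, orderOf x = p ^ k := by
    intro x hx
    rcases Finset.mem_insert.1 hx with rfl | hx
    · exact ⟨S.one_mem, 0, by rw [orderOf_one, pow_zero]⟩
    · exact hX x hx
  have hX'cl : ∀ x ∈ X', ∀ y ∈ X', IsConj x y → x = y := by
    intro x hx y hy hxy
    rcases Finset.mem_insert.1 hx with rfl | hx
    · exact (isConj_one_right.1 hxy).symm
    · rcases Finset.mem_insert.1 hy with rfl | hy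
      · exact isConj_one_left.1 hxy
      · exact hcl x hx y hy hxy
  let one : ↥S → ℂ := fun _ => 1
  have hone : one ∈ charSpan (principalBlock M ↥S) :=
    Submodule.subset_span ⟨⟨fun _ => 1, Blocks.Basic.isIrrCharacter_one⟩,
      Blocks.PrincipalSection.one_mem_principalBlock, rfl⟩
  let v : Option X' → Inv M S := fun i =>
    match i with
    | none => ⟨scut S p 1 av, scut_mem S hM 1 havB, scut_inv S havi⟩
    | some x => ⟨scut S p (x : A) one, scut_mem S hM _ hone, scut_inv S fun _ _ => rfl⟩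
  have hv : LinearIndependent ℂ v := by
    rw [Fintype.linearIndependent_iff]
    intro g hg
    have h1 : ∀ s : ↥S, g none * scut S p 1 av s + ∑ x : X', g (some x) * scut S p (x : A) one s = 0 := by
      intro s
      have h2 := congrArg (fun θ : Inv M S => (θ : ↥S → ℂ) s) hg
      simp only [Fintype.sum_option] at h2
      rw [Submodule.coe_add, Submodule.coe_sum] at h2
      simpa [v, Finset.sum_apply] using h2
    -- values at a `p`-element
    have h3 : ∀ (y : ↥S), (∃ k, orderOf y = p ^ k) → ∀ (x : A) (θ : ↥S → ℂ), scut S p x θ y = if IsConj x (y : A) then θ y else 0 := by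
      intro y hy x θ
      have hy1 : IsPPart p y y := Blocks.PPart.isPPart_of_isPGroup hy
      by_cases h : IsConj x (y : A)
      · rw [if_pos h, scut_of S ⟨y, hy1, h⟩]
      · rw [if_neg h, scut_of_not]
        rintro ⟨z, hz, h'⟩
        rw [Blocks.PPart.isPPart_unique hz hy1] at h'
        exact h h'
    have h4 : ∀ x : X', (x : A) ≠ 1 → g (some x) = 0 := by
      intro x hx
      obtain ⟨hxS, k, hk⟩ := hX'S x x.2
      have h5 := h1 ⟨x, hxS⟩
      have hord : ∃ k, orderOf (⟨x, hxS⟩ : ↥S) = p ^ k := ⟨k, by rw [← hk]; exact (Subgroup.orderOf_coe (⟨x, hxS⟩ : ↥S)).symm⟩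
      rw [h3 _ hord, if_neg (fun h => hx (isConj_one_right.1 h)), mul_zero, zero_add] at h5
      rw [Finset.sum_eq_single x] at h5
      · rw [h3 _ hord, if_pos (IsConj.refl _)] at h5
        simpa [one] using h5
      · intro y _ hyx
        rw [h3 _ hord, if_neg, mul_zero]
        intro h
        exact hyx (Subtype.ext (hX'cl y y.2 x x.2 h))
      · intro h
        exact absurd (Finset.mem_univ x) h
    let x1 : X' := ⟨1, Finset.mem_insert_self _ _⟩
    -- values at `p`-regular elements
    have h6 : ∀ y : ↥S, ¬ p ∣ orderOf y → g none * av y + g (some x1) = 0 := by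
      intro y hy
      have h7 := h1 y
      have hy1 : IsPPart p y 1 := Blocks.PPart.isPPart_of_not_dvd hy
      have hin : InSec S p (1 : A) y := ⟨1, hy1, by rw [Subgroup.coe_one]⟩
      rw [scut_of S hin] at h7
      rw [Finset.sum_eq_single x1] at h7
      · have h7' : scut S p (x1 : A) one y = 1 := scut_of S hin one
        rw [h7', mul_one] at h7
        exact h7
      · intro z _ hz
        rw [h4 z (fun h => hz (Subtype.ext h)), zero_mul]
      · intro h
        exact absurd (Finset.mem_univ x1) h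
    have h8 := h6 s₀ hs₀
    have h9 := h6 1 (by rw [orderOf_one]; exact hpp.one_lt.not_ge ∘ Nat.le_of_dvd Nat.one_pos)
    have h10 : g none * (av s₀ - av 1) = 0 := by linear_combination h8 - h9
    have h11 : g none = 0 := by
      rcases mul_eq_zero.1 h10 with h | h
      · exact h
      · exact absurd (sub_eq_zero.1 h) hav
    have h12 : g (some x1) = 0 := by rw [h11, zero_mul, zero_add] at h8; exact h8
    rintro (_ | x)
    · exact h11
    · by_cases hx : (x : A) = 1
      · have : x = x1 := Subtype.ext hx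
        rw [this]; exact h12
      · exact h4 x hx
  have h1 := hv.fintype_card_le_finrank
  have h2 := finrank_inv_le (M := M) S
  rw [Fintype.card_option, Fintype.card_coe] at h1
  omega

end Cfsg.Agent.H735.S4822
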