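import Cfsg.Agent.H735.S4822.Prod
import Cfsg.Agent.H793.PC.Five

/-!
# Counting characters over a nonabelian minimal normal subgroup (helper735, for S4822)

`N = T₁ × ⋯ × T_t` is a direct product of the members of `minSet N`, permuted transitively by `G`.

* `RelS S a b`: the members `a`, `b` of the principal block of `S` are conjugate under `N_G(S)`.
* `nOrb M S`: the number of these classes.
* `count_wreath`: `k(G / K) + multichoose (nOrb M S) t ≤ k(B₀(G)) + 1`.
-/

set_option autoImplicit false
set_option linter.unusedSectionVars false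

namespace Cfsg.Agent.H735.S4822

open Cfsg Cfsg.Agent.Blocks Cfsg.Agent.Blocks.Local Cfsg.Agent.Characters.Core
  Cfsg.Agent.Lib.MinNormalNonabelian Cfsg.Agent.Lib.MinNormal Cfsg.Agent.H793.PC

universe u

variable {G : Type u} [Group G]

/-- Members of the principal block of `S` conjugate under the normalizer of `S`. -/
def relS (M : Ideal AlgInt) (S : Subgroup G) : Setoid (principalBlock M S) where
  r a b := ∃ (g : G) (hg : ∀ x : G, x ∈ S ↔ g * x * g⁻¹ ∈ S), ∀ x : S,
    (b.1 : S → ℂ) x = (a.1 : S → ℂ) ⟨g * x * g⁻¹, (hg x).1 x.2⟩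
  iseqv :=
    { refl := fun a => ⟨1, fun x => by simp, fun x =>
        congrArg (a.1 : S → ℂ) (Subtype.ext (by simp))⟩
      symm := by
        rintro a b ⟨g, hg, hab⟩
        refine ⟨g⁻¹, fun x => ?_, fun x => ?_⟩
        · rw [hg (g⁻¹ * x * g⁻¹⁻¹)]
          have : g * (g⁻¹ * x * g⁻¹⁻¹) * g⁻¹ = x := by group
          rw [this]
        · rw [hab]
          refine congrArg (a.1 : S → ℂ) (Subtype.ext ?_)
          show (x : G) = g * (g⁻¹ * x * g⁻¹⁻¹) * g⁻¹
          group
      trans := by
        rintro a b c ⟨g, hg, hab⟩ ⟨k, hk, hbc⟩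
        refine ⟨g * k, fun x => ?_, fun x => ?_⟩
        · rw [hk x, hg (k * x * k⁻¹)]
          have : g * (k * x * k⁻¹) * g⁻¹ = g * k * x * (g * k)⁻¹ := by group
          rw [this]
        · rw [hbc, hab]
          refine congrArg (a.1 : S → ℂ) (Subtype.ext ?_)
          show g * (k * x * k⁻¹) * g⁻¹ = g * k * x * (g * k)⁻¹
          group }

/-- The number of `N_G(S)`-orbits on the principal block of `S`. -/
noncomputable def nOrb (M : Ideal AlgInt) (S : Subgroup G) : ℕ := Nat.card (Quotient (relS M S))

/-- Every multiset of size `|ι|` is the multiset of values of a function on `ι`. -/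
theorem exists_map_eq {ι Y : Type*} [Fintype ι] (s : Multiset Y)
    (hs : Multiset.card s = Fintype.card ι) :
    ∃ a : ι → Y, (Finset.univ : Finset ι).val.map a = s := by
  classical
  obtain ⟨l, rfl⟩ := Quot.exists_rep s
  have hl : l.length = Fintype.card ι := by simpa using hs
  let e : ι ≃ Fin l.length := (Fintype.equivFin ι).trans (finCongr hl.symm)
  refine ⟨fun i => l.get (e i), ?_⟩
  have h1 : (Finset.univ : Finset ι).val.map (fun i => l.get (e i)) =
      ((Finset.univ : Finset ι).val.map e).map l.get := by
    rw [Multiset.map_map]; rfl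
  have h2 : (Finset.univ : Finset ι).val.map e = (Finset.univ : Finset (Fin l.length)).val := by
    have := Finset.map_univ_equiv e
    rw [← this]
    rfl
  rw [h1, h2]
  have h3 : (Finset.univ : Finset (Fin l.length)).val = (List.finRange l.length : Multiset _) := rfl
  rw [h3, Multiset.map_coe]
  have h4 : List.map l.get (List.finRange l.length) = l := by simp
  rw [h4]
  rfl

variable [Finite G] {p : ℕ} [Fact p.Prime] {M : Ideal AlgInt} {N : Subgroup G} [hN : N.Normal]

/-- the isomorphism `S ≃* T` given by conjugation -/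
def iso {S T : minSet N} {g : G} (hg : cj g S = T) : (S : Subgroup G) ≃* (T : Subgroup G) :=
  (ci g S).trans (MulEquiv.subgroupCongr (congrArg Subtype.val hg))

theorem coe_iso {S T : minSet N} {g : G} (hg : cj g S = T) (x : (S : Subgroup G)) :
    ((iso hg x : (T : Subgroup G)) : G) = g * x * g⁻¹ := rfl

/-- composition of an irreducible character with an isomorphism -/
def cmp {A B : Type*} [Group A] [Group B] (θ : IrrCharacter B) (e : A ≃* B) : IrrCharacter A :=
  ⟨(θ : B → ℂ) ∘ e.toMonoidHom, isIrr_comp e.toMonoidHom e.surjective θ.2⟩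

theorem cmp_apply {A B : Type*} [Group A] [Group B] (θ : IrrCharacter B) (e : A ≃* B) (a : A) :
    (cmp θ e : A → ℂ) a = (θ : B → ℂ) (e a) := rfl

theorem cmp_mem [M.IsPrime] {A B : Type u} [Group A] [Finite A] [Group B] [Finite B]
    {θ : IrrCharacter B} (hθ : θ ∈ principalBlock M B) (e : A ≃* B) :
    cmp θ e ∈ principalBlock M A :=
  H133.PB.mem_principalBlock_comp e.toMonoidHom e.surjective hθ

/-- **Product count.** -/
theorem count_wreath (hM : IsPModular p M) (hidx : ¬ p ∣ N.index) (P : Sylow p G)
    (K : Subgroup G) [K.Normal] (hNK : N ≤ K)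
    (hK : Subgroup.centralizer ((P : Subgroup G) : Set G) ≤ K) (h : Dec N) (S : minSet N)
    (htr : ∀ T : minSet N, ∃ g : G, cj g S = T) :
    Nat.card (ConjClasses (G ⧸ K)) + Nat.multichoose (nOrb M (S : Subgroup G)) (Nat.card (minSet N)) ≤
      Nat.card (principalBlock M G) + 1 := by
  classical
  have hMp : M.IsPrime := isPrime_of_isPModular hM
  have hfm : Finite (minSet N) := inferInstance
  have hfmt : Fintype (minSet N) := Fintype.ofFinite _
  choose γ hγ using htr
  let Y := Quotient (relS M (S : Subgroup G))
  have hfinS : Finite (IrrCharacter (S : Subgroup G)) := finite_irr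
  have hfY : Finite Y := Finite.of_surjective _ Quotient.mk_surjective
  have hfYt : Fintype Y := Fintype.ofFinite _
  -- the character of `T` attached to a class
  let ch : ∀ T : minSet N, Y → IrrCharacter (T : Subgroup G) := fun T y =>
    cmp y.out.1 (iso (hγ T)).symm
  have hch : ∀ (T : minSet N) (y : Y), ch T y ∈ principalBlock M (T : Subgroup G) := fun T y =>
    cmp_mem y.out.2 _
  have hchv : ∀ (T : minSet N) (y : Y) (x : (S : Subgroup G)), (ch T y : ↥(T : Subgroup G) → ℂ) (iso (hγ T) x) =
      (y.out.1 : ↥(S : Subgroup G) → ℂ) x := by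
    intro T y x
    show (y.out.1 : ↥(S : Subgroup G) → ℂ) ((iso (hγ T)).symm (iso (hγ T) x)) = _
    rw [MulEquiv.symm_apply_apply]
  have hsel : ∀ s : Sym Y (Fintype.card (minSet N)), ∃ a : minSet N → Y,
      (Finset.univ : Finset (minSet N)).val.map a = s.1 := fun s => exists_map_eq s.1 s.2
  choose a ha using hsel
  let one : principalBlock M (S : Subgroup G) := ⟨⟨fun _ => 1, isIrr_one⟩, by
    intro x
    rw [sub_self]
    exact memLocalIdeal_zero⟩
  let y0 : Y := Quotient.mk _ one
  let ι := {s : Sym Y (Fintype.card (minSet N)) // s ≠ Sym.replicate _ y0}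
  let f : ι → IrrCharacter N := fun s => FF h fun T => ch T (a s.1 T)
  have hcount := count_family hM N hidx P K hNK hK f (fun s => FF_mem h _ fun T => hch T _) ?_ ?_
  · have h1 : Nat.card ι + 1 = Nat.multichoose (nOrb M (S : Subgroup G)) (Nat.card (minSet N)) := by
      have h2 : Nat.card (Sym Y (Fintype.card (minSet N))) =
          Nat.multichoose (nOrb M (S : Subgroup G)) (Nat.card (minSet N)) := by
        rw [Sym.natCard_sym_eq_multichoose, Nat.card_eq_fintype_card (α := minSet N)]
        rfl
      rw [← h2]
      have h3 : Nat.card (Sym Y (Fintype.card (minSet N))) =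
          Nat.card {s : Sym Y (Fintype.card (minSet N)) // s = Sym.replicate _ y0} +
          Nat.card ι := by
        rw [← Nat.card_sum]
        exact Nat.card_congr (Equiv.sumCompl _).symm
      rw [h3]
      have h4 : Nat.card {s : Sym Y (Fintype.card (minSet N)) // s = Sym.replicate _ y0} = 1 := by
        rw [Nat.card_eq_fintype_card]
        exact Fintype.card_subtype_eq _
      rw [h4, add_comm]
    omega
  · -- nontrivial
    rintro ⟨s, hs⟩ h1
    apply hs
    have h2 : (fun T : minSet N => (ch T (a s T) : ↥(T : Subgroup G) → ℂ)) = fun T => 1 := by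
      apply Cfsg.Agent.H663.GmnStep.pi_unique (A := fun T : minSet N => (T : Subgroup G))
      · exact fun T => (ch T (a s T)).2
      · exact fun T => isIrr_one
      · intro x
        have h3 := congrFun h1 (h.E x)
        have h4 : (f ⟨s, hs⟩ : N → ℂ) (h.E x) = ∏ T : minSet N, (ch T (a s T) : ↥(T : Subgroup G) → ℂ) (x T) :=
          h.F_E _ x
        rw [h4] at h3
        rw [h3]
        simp
    have h5 : ∀ T, a s T = y0 := by
      intro T
      have h6 := congrFun h2 T
      rw [← Quotient.out_eq (a s T)]
      have h7 : (a s T).out = one := by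
        apply Subtype.ext
        apply Subtype.ext
        funext x
        rw [← hchv T (a s T) x, h6]
        rfl
      rw [h7]
    apply Subtype.ext
    rw [← ha s]
    rw [Multiset.map_congr rfl fun T _ => h5 T, Multiset.map_const']
    rfl
  · -- pairwise nonconjugate
    rintro ⟨s, hs⟩ ⟨s', hs'⟩ g h1
    -- comparison of the factors
    have h2 : (fun T : minSet N => (ch T (a s' T) : ↥(T : Subgroup G) → ℂ)) = fun T =>
        (ch (cj g T) (a s (cj g T)) : ↥((cj g T : minSet N) : Subgroup G) → ℂ) ∘ ci g T := by
      apply Cfsg.Agent.H663.GmnStep.pi_unique (A := fun T : minSet N => (T : Subgroup G))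
      · exact fun T => (ch T (a s' T)).2
      · exact fun T => isIrr_comp (ci g T).toMonoidHom (ci g T).surjective
          (ch (cj g T) (a s (cj g T))).2
      · intro x
        have h3 : (f ⟨s', hs'⟩ : N → ℂ) (h.E x) = (f ⟨s, hs⟩ : N → ℂ) (MulAut.conjNormal g (h.E x)) := by
          rw [h1, Covering.conjIrr_apply]
        have h4 : (f ⟨s', hs'⟩ : N → ℂ) (h.E x) =
            ∏ T : minSet N, (ch T (a s' T) : ↥(T : Subgroup G) → ℂ) (x T) := h.F_E _ x
        have h5 : (f ⟨s, hs⟩ : N → ℂ) (MulAut.conjNormal g (h.E x)) =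
            ∏ T : minSet N, ((ch (cj g T) (a s (cj g T)) :
              ↥((cj g T : minSet N) : Subgroup G) → ℂ) ∘ ci g T) (x T) := by
          rw [← h.F_E]
          have h6 := h.F_conj (fun T => (ch T (a s T) : ↥(T : Subgroup G) → ℂ)) g (h.E x)
          rw [← h6]
          show h.F _ _ = h.F _ _
          congr 1
        rw [h4, h5] at h3
        exact h3
    have h7 : ∀ T, a s' T = a s (cj g T) := by
      intro T
      rw [← Quotient.out_eq (a s' T), ← Quotient.out_eq (a s (cj g T))]
      refine Quotient.sound (s := relS M (S : Subgroup G)) ((relS M (S : Subgroup G)).symm' ?_)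
      -- `k = γ_{T'}⁻¹ g γ_T`
      have hS : cj ((γ (cj g T))⁻¹ * g * γ T) S = S := by
        have e1 : ∀ (x y : G) (R : minSet N), cj (x * y) R = cj x (cj y R) := by
          intro x y R
          apply Subtype.ext
          ext z
          rw [mem_cj, mem_cj, mem_cj]
          have : (x * y)⁻¹ * z * (x * y) = y⁻¹ * (x⁻¹ * z * x) * y := by group
          rw [this]
        have e2 : ∀ R : minSet N, cj (1 : G) R = R := by
          intro R
          apply Subtype.ext
          ext z
          rw [mem_cj]
          simp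
        have e4 := congrArg (cj (γ (cj g T))⁻¹) (hγ (cj g T))
        rw [e1, e1, hγ T, ← e4, ← e1, inv_mul_cancel, e2]
      set k : G := (γ (cj g T))⁻¹ * g * γ T with hk
      have hkS : ∀ x : G, x ∈ (S : Subgroup G) ↔ k * x * k⁻¹ ∈ (S : Subgroup G) := by
        intro x
        have h8 : k * x * k⁻¹ ∈ (S : Subgroup G) ↔ k * x * k⁻¹ ∈ ((cj k S : minSet N) : Subgroup G) := by
          rw [hS]
        rw [h8, mem_cj]
        have : k⁻¹ * (k * x * k⁻¹) * k = x := by group
        rw [this]
      refine ⟨k, hkS, fun x => ?_⟩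
      have h9 := congrFun (congrFun h2 T) (iso (hγ T) x)
      rw [hchv, Function.comp_apply] at h9
      rw [h9, ← hchv (cj g T) (a s (cj g T)) ⟨k * x * k⁻¹, (hkS x).1 x.2⟩]
      refine congrArg (ch (cj g T) (a s (cj g T)) :
        ↥((cj g T : minSet N) : Subgroup G) → ℂ) (Subtype.ext ?_)
      rw [coe_ci, coe_iso, coe_iso]
      show g * (γ T * x * (γ T)⁻¹) * g⁻¹ = γ (cj g T) * (k * x * k⁻¹) * (γ (cj g T))⁻¹
      rw [hk]
      group
    apply Subtype.ext
    apply Subtype.ext
    show s.1 = s'.1
    rw [← ha s, ← ha s', Multiset.map_congr rfl fun T _ => h7 T]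
    have h10 : (Finset.univ : Finset (minSet N)).val.map (fun T => a s (cj g T)) =
        ((Finset.univ : Finset (minSet N)).val.map (cj g)).map (a s) := by
      rw [Multiset.map_map]; rfl
    have h11 : (Finset.univ : Finset (minSet N)).val.map (cj g) =
        (Finset.univ : Finset (minSet N)).val := by
      have := Finset.map_univ_equiv (cj (M := N) g)
      conv_rhs => rw [← this]
      rfl
    rw [h10, h11]

end Cfsg.Agent.H735.S4822
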